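import Groth.Agent.CILib.Conormal
import Groth.Agent.CILib.LCIFlat
import Groth.Agent.CILib.Syntomic
import Groth.Agent.CILib.Fibre
import Groth.Agent.CILib.GlobalCI
import Groth.Agent.ArtFibre.Basic
import Mathlib

/-!
# Generically smooth local complete intersections have torsion-free conormal module
-/

set_option autoImplicit false
set_option linter.style.haveILetI false

universe u

noncomputable section

namespace Groth.Agent.H1LCILib

open Algebra

theorem assoc_minimal_of_cm {B : Type u} [CommRing B] [LocCoh.IsCohenMacaulayRing B] {q : Ideal B}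
    (hq : q ∈ associatedPrimes B B) : q ∈ minimalPrimes B := by
  haveI := hq.isPrime
  refine ArtFibre.assoc_minimal_of_hasS1 (fun p _ => ?_) hq
  rw [Groth.Agent.Depth.depth_localizedSelf, Groth.Agent.Depth.supportDim_localizedSelf]
  have h := (LocCoh.IsCohenMacaulayRing.isCohenMacaulayLocalRing_localization (R := B) p).supportDim_eq_depth
  rw [Module.supportDim_self_eq_ringKrullDim] at h
  rw [h]
  exact min_le_right _ _

theorem eq_zero_of_killed {B : Type u} [CommRing B] [IsNoetherianRing B] (hB : ∀ q ∈ associatedPrimes B B, q ∈ minimalPrimes B)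
    (c : B) (h : ∀ q ∈ minimalPrimes B, ∃ s ∉ q, s * c = 0) : c = 0 := by
  by_contra hc
  obtain ⟨q, hq, hle⟩ := exists_le_isAssociatedPrime_of_isNoetherianRing B c hc
  obtain ⟨s, hs, hsc⟩ := h q (hB q hq)
  exact hs (hle (by simpa [Submodule.mem_colon_singleton] using hsc))

theorem cotangent_eq_zero {k : Type u} [Field k] {n : ℕ} (I : Ideal (MvPolynomial (Fin n) k))
    (hsyn : Synt.IsSyntomic k (MvPolynomial (Fin n) k ⧸ I)) (x : I.Cotangent)
    (h : ∀ q ∈ minimalPrimes (MvPolynomial (Fin n) k ⧸ I), ∃ s : MvPolynomial (Fin n) k,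
      Ideal.Quotient.mk I s ∉ q ∧ Ideal.Quotient.mk I s • x = 0) : x = 0 := by
  let B := MvPolynomial (Fin n) k ⧸ I
  let B₁ := Localization.Away (1 : B)
  let e : B ≃ₐ[B] B₁ := IsLocalization.atUnits B (Submonoid.powers (1 : B)) (by
    rintro _ ⟨m, rfl⟩; simp)
  have hsyn₁ : Synt.IsSyntomic k B₁ := CILib.isSyntomic_congr (e.restrictScalars k) hsyn
  haveI := (CILib.conormal_finite_projective I (IsNoetherian.noetherian I) 1 hsyn₁).2
  haveI : LocCoh.IsCohenMacaulayRing B := CILib.isCohenMacaulayRing_of_isLCIOver (CILib.isLCIOver_of_isSyntomic_field hsyn)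
  let j := LocalizedModule.mkLinearMap (Submonoid.powers (1 : B)) I.Cotangent
  have hj : j x = 0 := by
    rw [← Module.forall_dual_apply_eq_zero_iff B₁]
    intro φ
    refine e.symm.injective ?_
    rw [map_zero]
    refine eq_zero_of_killed (fun q => assoc_minimal_of_cm) _ fun q hq => ?_
    obtain ⟨s, hs, hsx⟩ := h q hq
    refine ⟨_, hs, ?_⟩
    rw [← smul_eq_mul, ← map_smul, ← LinearMap.map_smul_of_tower, ← map_smul j, hsx, map_zero, map_zero, map_zero]
  rw [LocalizedModule.mkLinearMap_apply, ← LocalizedModule.zero_mk (1 : Submonoid.powers (1 : B)), LocalizedModule.mk_eq] at hj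
  obtain ⟨⟨u, m, rfl⟩, hu⟩ := hj
  simpa [Submonoid.smul_def] using hu

theorem subsingleton_h1 (k : Type u) [Field k] (A : Type u) [CommRing A] [Algebra k A] (hlci : LCI.IsLCI k A)
    (hgs : ∀ (p : Ideal A) [p.IsPrime], p ∈ minimalPrimes A → Algebra.FormallySmooth k (Localization.AtPrime p)) :
    Subsingleton (Algebra.H1Cotangent k A) := by
  have hsyn : Synt.IsSyntomic k A := CILib.isSyntomic_iff_flat_and_isLCI.2 ⟨inferInstance, hlci⟩
  obtain ⟨-, n, f, hf, -⟩ := hlci
  have hev : MvPolynomial.aeval (R := k) (f ∘ MvPolynomial.X) = f := (MvPolynomial.aeval_unique f).symm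
  let G : Algebra.Generators k A (Fin n) := Algebra.Generators.ofSurjective (f ∘ MvPolynomial.X) (by rw [hev]; exact hf)
  suffices Subsingleton G.toExtension.H1Cotangent from G.equivH1Cotangent.symm.toEquiv.subsingleton
  let I : Ideal (MvPolynomial (Fin n) k) := G.toExtension.ker
  have hI : I = RingHom.ker f := by
    show G.ker = _
    rw [Algebra.Generators.ker_eq_ker_aeval_val]
    exact congrArg RingHom.ker hev
  let eB : (MvPolynomial (Fin n) k ⧸ I) ≃ₐ[k] A :=
    (Ideal.quotientEquivAlgOfEq k hI).trans (Ideal.quotientKerAlgEquivOfSurjective hf)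
  have hsB : Synt.IsSyntomic k (MvPolynomial (Fin n) k ⧸ I) := CILib.isSyntomic_congr eB.symm hsyn
  have heB : ∀ q, eB (Ideal.Quotient.mk I q) = algebraMap G.toExtension.Ring A q := fun q => by
    show f q = MvPolynomial.aeval (f ∘ MvPolynomial.X) q
    rw [hev]
  constructor
  intro y z
  have key : ∀ w : G.toExtension.H1Cotangent, w = 0 := by
    intro w
    refine Subtype.ext ?_
    refine cotangent_eq_zero I hsB w.1.val fun q hq => ?_
    haveI : q.IsPrime := hq.isPrime
    let p : Ideal A := q.comap eB.symm.toRingHom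
    haveI : p.IsPrime := Ideal.IsPrime.comap _
    have hpmin : p ∈ minimalPrimes A := by
      refine ⟨⟨inferInstance, bot_le⟩, fun r ⟨hr, _⟩ hle a ha => ?_⟩
      haveI := hr
      have h1 : r.comap eB.toRingHom ≤ q := fun b hb => by
        have h' : eB.symm (eB b) ∈ q := hle hb
        rwa [eB.symm_apply_apply] at h'
      have h2 := hq.2 ⟨Ideal.IsPrime.comap _, bot_le⟩ h1 ha
      show a ∈ r
      have h3 : eB (eB.symm a) ∈ r := h2
      rwa [eB.apply_symm_apply] at h3
    haveI := hgs p hpmin
    have hsub : Subsingleton (LocalizedModule p.primeCompl (Algebra.H1Cotangent k A)) :=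
      (IsLocalizedModule.iso p.primeCompl (Algebra.H1Cotangent.map k k A (Localization.AtPrime p))).toEquiv.subsingleton
    obtain ⟨s, hs, hsw⟩ := LocalizedModule.subsingleton_iff.1 hsub (G.equivH1Cotangent w)
    obtain ⟨s', rfl⟩ := (eB.surjective.comp Ideal.Quotient.mk_surjective) s
    refine ⟨s', fun hmem => hs ?_, ?_⟩
    · show eB.symm (eB (Ideal.Quotient.mk I s')) ∈ q
      rwa [eB.symm_apply_apply]
    · have hw0 : eB (Ideal.Quotient.mk I s') • w = 0 :=
        G.equivH1Cotangent.injective (((map_smul _ _ _).trans hsw).trans (map_zero _).symm)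
      have h0 : (eB (Ideal.Quotient.mk I s') • w).1 = 0 := congrArg Subtype.val hw0
      have h1 : (algebraMap G.toExtension.Ring A s' • w.1).val = 0 := by
        rw [← heB]
        exact congrArg Algebra.Extension.Cotangent.val h0
      rw [algebraMap_smul, Algebra.Extension.Cotangent.val_smul'] at h1
      exact h1
  rw [key y, key z]

end Groth.Agent.H1LCILib
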